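import Groth.Agent.Surf.K463.CI2
import Groth.Agent.Coherent.K51.CIReg
import Mathlib.Tactic.LinearCombination

/-!
# Hilbert functions of complete intersections in projective space

* `ch n r a m`: the alternating sum giving `χ(O(m))` of a complete intersection of degrees `a_0, …, a_{r-1}`;
* `hf_eq_ch`: `hf (ciIdeal G) m = ch n r a m` for a regular sequence `G`;
* `fam3 l m q`: the family of three forms; `isReg_fam3`, `ciIdeal_fam3`;
* `hf_122`, `hf_113`: in `P^4`, `χ(O(m)) = 4 m` for degrees `(1, 2, 2)` and `3 m` for degrees `(1, 1, 3)`.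
-/

set_option autoImplicit false
universe u
open CategoryTheory CategoryTheory.Limits AlgebraicGeometry TopologicalSpace

namespace Groth.Agent.Fano.K931.CIChi

open K463.HilbF K463.CI2 LefPen Groth.Agent.Coherent.K51.CIReg Groth.Agent.VarietyB.EulerBinom
  Groth.Agent.Lefpen.H718.Chart

variable {k : Type u} [Field k] {n : ℕ}

/-- The Euler characteristic of `O(m)` on a complete intersection. -/
noncomputable def ch (n : ℕ) : (r : ℕ) → (Fin r → ℕ) → ℤ → ℤ
  | 0, _, m => c n m
  | r + 1, a, m => ch n r (fun j => a j.castSucc) m - ch n r (fun j => a j.castSucc) (m - a (Fin.last r))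

theorem hf_eq_ch : ∀ (r : ℕ) (a : Fin r → ℕ) (G : ∀ j : Fin r, Form n k (a j)) (_ : IsReg G) (m : ℤ),
    hf k n (ciIdeal G) m = ch n r a m
  | 0, _, G, _, m => hf_nil G m
  | r + 1, a, G, h, m => by
    rw [hf_succ G h.fn_mem_nonZeroDivisors, hf_eq_ch r _ _ h.castSucc, hf_eq_ch r _ _ h.castSucc]
    rfl

theorem c_four (m : ℤ) : 24 * c 4 m = (m + 1) * (m + 2) * (m + 3) * (m + 4) := by
  have key : ∀ d : ℕ, (24 : ℤ) * (N 4 d : ℤ) = (d + 1) * (d + 2) * (d + 3) * (d + 4) := by
    intro d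
    rw [N_eq, ← Nat.choose_symm_add]
    have h := Nat.ascFactorial_eq_factorial_mul_choose d 4
    have h4 : Nat.factorial 4 = 24 := rfl
    rw [h4] at h
    have h2 : (d + 1).ascFactorial 4 = (d + 1) * (d + 2) * (d + 3) * (d + 4) := by
      simp only [Nat.ascFactorial]
      ring
    rw [add_comm 4 d]
    rw [h2] at h
    exact_mod_cast h.symm
  unfold c
  split_ifs with h1 h2
  · obtain ⟨d, rfl⟩ := Int.eq_ofNat_of_zero_le h1
    rw [Int.toNat_natCast, key]
  · obtain ⟨d, hd⟩ := Int.eq_ofNat_of_zero_le (show 0 ≤ -(((4 : ℕ) : ℤ) + 1) - m by omega)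
    rw [hd, Int.toNat_natCast]
    have h3 : m = -5 - d := by push_cast at hd; omega
    have h4 := key d
    rw [h3]
    linear_combination h4
  · have h3 : m = -1 ∨ m = -2 ∨ m = -3 ∨ m = -4 := by push_cast at h2; omega
    rcases h3 with rfl | rfl | rfl | rfl <;> norm_num

/-- degrees of a family of three forms -/
def dg3 (a b c : ℕ) : Fin 3 → ℕ
  | 0 => a
  | 1 => b
  | 2 => c

/-- a family of three forms -/
noncomputable def fam3 {a b c : ℕ} (l : Form n k a) (m : Form n k b) (q : Form n k c) :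
    ∀ j : Fin 3, Form n k (dg3 a b c j)
  | 0 => l
  | 1 => m
  | 2 => q

theorem ciIdeal_fam3 {a b c : ℕ} (l : Form n k a) (m : Form n k b) (q : Form n k c) :
    ciIdeal (fam3 l m q) = hypIdeal l ⊔ hypIdeal m ⊔ hypIdeal q := by
  apply le_antisymm
  · refine iSup_le fun j => ?_
    match j with
    | 0 => exact le_sup_of_le_left le_sup_left
    | 1 => exact le_sup_of_le_left le_sup_right
    | 2 => exact le_sup_right
  · exact sup_le (sup_le (le_iSup (fun j => hypIdeal (fam3 l m q j)) 0)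
      (le_iSup (fun j => hypIdeal (fam3 l m q j)) 1)) (le_iSup (fun j => hypIdeal (fam3 l m q j)) 2)

theorem range_fam3 {a b c : ℕ} (l : Form n k a) (m : Form n k b) (q : Form n k c) :
    Set.range (fun j => (fam3 l m q j).1) = {l.1, m.1, q.1} := by
  ext x
  constructor
  · rintro ⟨j, rfl⟩
    match j with
    | 0 => exact Or.inl rfl
    | 1 => exact Or.inr (Or.inl rfl)
    | 2 => exact Or.inr (Or.inr rfl)
  · rintro (rfl | rfl | rfl)
    · exact ⟨0, rfl⟩
    · exact ⟨1, rfl⟩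
    · exact ⟨2, rfl⟩

theorem isReg_fam3 {a b c : ℕ} {l : Form n k a} {m : Form n k b} {q : Form n k c} (h0 : l.1 ≠ 0)
    (h1 : ∀ f, m.1 * f ∈ Ideal.span {l.1} → f ∈ Ideal.span {l.1})
    (h2 : ∀ f, q.1 * f ∈ Ideal.span {l.1, m.1} → f ∈ Ideal.span {l.1, m.1}) : IsReg (fam3 l m q) := by
  have e1 : ((fun j => (fam3 l m q j).1) '' {j | j < (1 : Fin 3)}) = {l.1} := by
    ext x
    constructor
    · rintro ⟨j, hj, rfl⟩
      have hj' : j = 0 := by
        have : j < 1 := hj
        omega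
      subst hj'
      rfl
    · rintro rfl
      exact ⟨0, by simp, rfl⟩
  have e2 : ((fun j => (fam3 l m q j).1) '' {j | j < (2 : Fin 3)}) = {l.1, m.1} := by
    ext x
    constructor
    · rintro ⟨j, hj, rfl⟩
      have hj' : j = 0 ∨ j = 1 := by
        have : j < 2 := hj
        omega
      rcases hj' with rfl | rfl
      · exact Or.inl rfl
      · exact Or.inr rfl
    · rintro (rfl | rfl)
      · exact ⟨0, by simp, rfl⟩
      · exact ⟨1, by simp, rfl⟩
  intro d f hf
  match d with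
  | 0 =>
    have e0 : ((fun j => (fam3 l m q j).1) '' {j | j < (0 : Fin 3)}) = ∅ := by
      ext x
      simp
    rw [e0, Ideal.span_empty] at hf ⊢
    exact (mul_eq_zero.mp hf).resolve_left h0
  | 1 =>
    rw [e1] at hf ⊢
    exact h1 f hf
  | 2 =>
    rw [e2] at hf ⊢
    exact h2 f hf

theorem ch_three (a b c' : ℕ) (m : ℤ) : ch n 3 (dg3 a b c') m =
    c n m - c n (m - a) - (c n (m - b) - c n (m - b - a)) - ((c n (m - c') - c n (m - c' - a)) -
      (c n (m - c' - b) - c n (m - c' - b - a))) := rfl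

theorem hf_122 (l : Form 4 k 1) (q q' : Form 4 k 2) (h : IsReg (fam3 l q q')) (m : ℤ) :
    hf k 4 (ciIdeal (fam3 l q q')) m = 4 * m := by
  rw [hf_eq_ch _ _ _ h, ch_three]
  have e := fun t : ℤ => c_four t
  push_cast
  have h0 := e m
  have h1 := e (m - 1)
  have h2 := e (m - 2)
  have h3 := e (m - 2 - 1)
  have h4 := e (m - 2 - 2)
  have h5 := e (m - 2 - 2 - 1)
  have : 24 * (c 4 m - c 4 (m - 1) - (c 4 (m - 2) - c 4 (m - 2 - 1)) - (c 4 (m - 2) - c 4 (m - 2 - 1) -
      (c 4 (m - 2 - 2) - c 4 (m - 2 - 2 - 1)))) = 24 * (4 * m) := by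
    linear_combination h0 - h1 - 2 * h2 + 2 * h3 + h4 - h5
  exact mul_left_cancel₀ (by norm_num) this

theorem hf_113 (l l' : Form 4 k 1) (f : Form 4 k 3) (h : IsReg (fam3 l l' f)) (m : ℤ) :
    hf k 4 (ciIdeal (fam3 l l' f)) m = 3 * m := by
  rw [hf_eq_ch _ _ _ h, ch_three]
  have e := fun t : ℤ => c_four t
  push_cast
  have h0 := e m
  have h1 := e (m - 1)
  have h3 := e (m - 1 - 1)
  have h4 := e (m - 3)
  have h5 := e (m - 3 - 1)
  have h6 := e (m - 3 - 1 - 1)
  have : 24 * (c 4 m - c 4 (m - 1) - (c 4 (m - 1) - c 4 (m - 1 - 1)) - (c 4 (m - 3) - c 4 (m - 3 - 1) -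
      (c 4 (m - 3 - 1) - c 4 (m - 3 - 1 - 1)))) = 24 * (3 * m) := by
    linear_combination h0 - 2 * h1 + h3 - h4 + 2 * h5 - h6
  exact mul_left_cancel₀ (by norm_num) this

end Groth.Agent.Fano.K931.CIChi
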