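import Groth.Agent.Fano.K931.Vanish
import Groth.Agent.Fano.K931.CIChi
import Groth.Agent.Fga.DimLt
import Groth.Agent.VarietyB.ClosedInter

/-!
# Forms vanishing on an integral complete intersection curve

`mem_span`: if the integral curve `C ⊂ P^4` is the complete intersection `V(l, m, q)` then the forms vanishing on `C`
belong to the ideal `(l, m, q)`.
-/

set_option autoImplicit false
universe u

open CategoryTheory AlgebraicGeometry Limits TopologicalSpace Opposite

namespace Groth.Agent.Fano.K931.Saturate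

open LefPen K330.FormSec Groth.Agent.Fdesc.LocGen Groth.Agent.Lefpen.H705.HypIdeal
  Groth.Agent.Lefpen.H705.SecIdeal Groth.Agent.Lefpen.H718.Chart Groth.Agent.Lefpen.H121.ChartLift
  Groth.Agent.Sga5 CIChi Groth.Agent.Coherent.K51.CIReg

variable {N : ℕ} {k : Type u} [Field k] {X : Scheme.{u}} (r : X ⟶ CohB1.ProjSpace N k)

theorem sec'_eq_zero_iff_le {d : ℕ} (F : Form N k d) : sec' r F = 0 ↔ hypIdeal F ≤ r.ker := by
  refine ⟨hypIdeal_le_ker r F, fun h => ?_⟩
  rw [sec'_eq_zero_iff]
  intro j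
  have h1 : LefPen.dehom F j ∈ (hypIdeal F).ideal ⟨chart N k j, isAffineOpen_chart j⟩ := by
    rw [hypIdeal_ideal_of_le F j ⟨chart N k j, isAffineOpen_chart j⟩ le_rfl]
    refine Ideal.mem_span_singleton'.mpr ⟨1, ?_⟩
    rw [one_mul]
    have : ores (le_refl (chart N k j)) (LefPen.dehom F j) = LefPen.dehom F j := by
      change ((CohB1.ProjSpace N k).presheaf.map (homOfLE (le_refl (chart N k j))).op).hom _ = _
      have h2 : (homOfLE (le_refl (chart N k j))).op = 𝟙 (op (chart N k j)) := Subsingleton.elim _ _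
      rw [h2, (CohB1.ProjSpace N k).presheaf.map_id]
      rfl
    exact this
  have h2 := r.ideal_ker_le ⟨chart N k j, isAffineOpen_chart j⟩ (h _ h1)
  rw [RingHom.mem_ker] at h2
  rw [eqn, ← h2, Scheme.Hom.app_eq_appLE]

theorem sec'_comp {Y : Scheme.{u}} (i : Y ⟶ X) {d : ℕ} (F : Form N k d) (h : sec' r F = 0) :
    sec' (i ≫ r) F = 0 := by
  rw [sec'_eq_zero_iff_le] at h ⊢
  exact h.trans (Scheme.Hom.le_ker_comp i r)

theorem dim_le_support {Y Z : Scheme.{u}} (J : Z.IdealSheafData) (g : Y ⟶ Z) [IsClosedImmersion g]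
    (hmem : ∀ x, g x ∈ (J.support : Set Z)) :
    topologicalKrullDim Y ≤ topologicalKrullDim (J.support : Set Z) :=
  (Topology.IsInducing.codRestrict g.isClosedEmbedding.isInducing hmem).topologicalKrullDim_le

theorem dim_closed_le {T : Type u} [TopologicalSpace T] [IrreducibleSpace T] (hdim : topologicalKrullDim T = 1)
    {B : Set T} (hB : IsClosed B) (hne : B ≠ Set.univ) : topologicalKrullDim B ≤ ((0 : ℕ) : WithBot ℕ∞) := by
  by_contra hcon
  rw [not_le] at hcon
  have h2 : ((1 : ℕ) : WithBot ℕ∞) ≤ topologicalKrullDim B := by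
    have := ENat.WithBot.add_one_le_iff.mpr hcon
    simpa using this
  have h3 := Fga.DimLt.exists_ltSeries_succ hB hne h2
  rw [hdim] at h3
  have h4 : (1 + 1 : ℕ) ≤ 1 := by exact_mod_cast h3
  omega

theorem support_ne_univ [IsReduced X] {d : ℕ} (F : Form N k d) (h : sec' r F ≠ 0) :
    (((hypIdeal F).comap r).support : Set X) ≠ Set.univ := by
  intro hs
  apply h
  have h1 : (hypIdeal F).comap r = ⊥ := by
    rw [← Scheme.IdealSheafData.support_eq_top_iff]
    ext1
    exact hs
  rw [sec'_eq_zero_iff_le, ← Scheme.IdealSheafData.map_bot, Scheme.IdealSheafData.le_map_iff_comap_le, h1]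

/-- The section of an integral curve by a form which does not vanish on it. -/
theorem dim_section_le [IsIntegral X] [IsClosedImmersion r] (hdim : topologicalKrullDim X = 1) {d : ℕ}
    (F : Form N k d) (h : sec' r F ≠ 0) :
    topologicalKrullDim ↥(hypIdeal F ⊔ r.ker).subscheme ≤ ((0 : ℕ) : WithBot ℕ∞) := by
  obtain ⟨e⟩ : Nonempty (((hypIdeal F).comap r).subscheme ≅ (hypIdeal F ⊔ r.ker).subscheme) :=
    ⟨VarietyB.ClosedInter.interIso r (hypIdeal F)⟩
  have h1 := dim_le_support ((hypIdeal F).comap r) (e.inv ≫ ((hypIdeal F).comap r).subschemeι) (fun x => by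
    rw [← Scheme.IdealSheafData.range_subschemeι, Scheme.Hom.comp_apply]
    exact Set.mem_range_self _)
  have h2 := dim_closed_le hdim ((hypIdeal F).comap r).support.isClosed (support_ne_univ r F h)
  exact h1.trans h2

/-- degrees of a family of four forms -/
def dg4 (a b c d : ℕ) : Fin 4 → ℕ
  | 0 => a
  | 1 => b
  | 2 => c
  | 3 => d

/-- a family of four forms -/
noncomputable def fam4 {n a b c d : ℕ} (l : Form n k a) (m : Form n k b) (q : Form n k c) (x : Form n k d) :
    ∀ j : Fin 4, Form n k (dg4 a b c d j)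
  | 0 => l
  | 1 => m
  | 2 => q
  | 3 => x

theorem ciIdeal_fam4 {n a b c d : ℕ} (l : Form n k a) (m : Form n k b) (q : Form n k c) (x : Form n k d) :
    ciIdeal (fam4 l m q x) = hypIdeal x ⊔ ciIdeal (fam3 l m q) := by
  rw [ciIdeal_fam3]
  apply le_antisymm
  · refine iSup_le fun j => ?_
    match j with
    | 0 => exact le_sup_of_le_right (le_sup_of_le_left le_sup_left)
    | 1 => exact le_sup_of_le_right (le_sup_of_le_left le_sup_right)
    | 2 => exact le_sup_of_le_right le_sup_right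
    | 3 => exact le_sup_left
  · exact sup_le (le_iSup (fun j => hypIdeal (fam4 l m q x j)) 3)
      (sup_le (sup_le (le_iSup (fun j => hypIdeal (fam4 l m q x j)) 0)
      (le_iSup (fun j => hypIdeal (fam4 l m q x j)) 1)) (le_iSup (fun j => hypIdeal (fam4 l m q x j)) 2))

theorem image_fam4 {n a b c d : ℕ} (l : Form n k a) (m : Form n k b) (q : Form n k c) (x : Form n k d) :
    ((fun j => (fam4 l m q x j).1) '' {j | j < (3 : Fin 4)}) = {l.1, m.1, q.1} := by
  ext y
  constructor
  · rintro ⟨j, hj, rfl⟩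
    have hj' : j = 0 ∨ j = 1 ∨ j = 2 := by
      have : j < 3 := hj
      omega
    rcases hj' with rfl | rfl | rfl
    · exact Or.inl rfl
    · exact Or.inr (Or.inl rfl)
    · exact Or.inr (Or.inr rfl)
  · rintro (rfl | rfl | rfl)
    · exact ⟨0, by simp, rfl⟩
    · exact ⟨1, by simp, rfl⟩
    · exact ⟨2, by simp, rfl⟩

theorem mem_span (r : X ⟶ CohB1.ProjSpace 4 k) [IsIntegral X] [IsClosedImmersion r]
    (hdim : topologicalKrullDim X = 1) {a b c : ℕ} (ha : 1 ≤ a) (hb : 1 ≤ b) (hc : 1 ≤ c)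
    (l : Form 4 k a) (m : Form 4 k b) (q : Form 4 k c) (hker : r.ker = ciIdeal (fam3 l m q)) {d : ℕ}
    (F : Form 4 k d) (hF : sec' r F = 0) : F.1 ∈ Ideal.span {l.1, m.1, q.1} := by
  obtain ⟨P, hP, ⟨j, hj⟩, hPF⟩ := Vanish.exists_prime r
  let x : Form 4 k 1 := ⟨MvPolynomial.X j, X_mem 4 k j⟩
  have hx : sec' r x ≠ 0 := fun h => hj ((hPF 1 x).mp h)
  have hreg : IsReg (fam4 l m q x) := by
    refine isReg_of_dim _ (by norm_num) (fun j => ?_) ?_
    · match j with
      | 0 => exact ha
      | 1 => exact hb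
      | 2 => exact hc
      | 3 => exact le_rfl
    · rw [ciIdeal_fam4, ← hker]
      exact dim_section_le r hdim x hx
  have hX : ∀ f : MvPolynomial (Fin 5) k, MvPolynomial.X j * f ∈ Ideal.span {l.1, m.1, q.1} →
      f ∈ Ideal.span {l.1, m.1, q.1} := by
    intro f hf
    have h1 := hreg 3 f
    rw [image_fam4] at h1
    exact h1 hf
  have hpow : ∀ (R : ℕ) (f : MvPolynomial (Fin 5) k), MvPolynomial.X j ^ R * f ∈ Ideal.span {l.1, m.1, q.1} →
      f ∈ Ideal.span {l.1, m.1, q.1} := by
    intro R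
    induction R with
    | zero => intro f hf; rwa [pow_zero, one_mul] at hf
    | succ R ih =>
      intro f hf
      apply ih
      apply hX
      rwa [pow_succ', mul_assoc] at hf
  have hdeh : ProjChart.dehom 4 k j F.1 ∈ Ideal.span (Set.range fun i => ProjChart.dehom 4 k j (fam3 l m q i).1) := by
    rw [← ker_toY, RingHom.mem_ker]
    have h1 : sec' (yι (fam3 l m q)) F = 0 := by
      rw [sec'_eq_zero_iff_le, Scheme.IdealSheafData.ker_subschemeι, ← hker]
      exact (sec'_eq_zero_iff_le r F).mp hF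
    have h2 := (sec'_eq_zero_iff _ F).mp h1 j
    rw [← fn_eq_eqn] at h2
    exact h2
  obtain ⟨R, hR⟩ := exists_pow_mul_mem (fun i => (fam3 l m q i).1) (dg3 a b c) (fun i => (fam3 l m q i).2) j F.2 hdeh
  rw [range_fam3] at hR
  exact hpow R F.1 hR

end Groth.Agent.Fano.K931.Saturate
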