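import Groth.Agent.Curves.K330.FormSec

/-!
# Forms vanishing on an integral scheme over projective space

`exists_prime`: for `r : X ⟶ P^N` with `X` integral there is a prime ideal `P` of the polynomial ring such that a
form `G` vanishes on `X` (`sec' r G = 0`) if and only if `G ∈ P`.
-/

set_option autoImplicit false
universe u

open CategoryTheory AlgebraicGeometry Limits TopologicalSpace Opposite

namespace Groth.Agent.Fano.K931.Vanish

open LefPen K330.FormSec Groth.Agent.Fdesc.LocGen Groth.Agent.Lefpen.H705.HypIdeal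
  Groth.Agent.Lefpen.H705.SecIdeal Groth.Agent.Lefpen.H708.Geo Groth.Agent.Sga5

variable {N : ℕ} {k : Type u} [Field k] {X : Scheme.{u}} (r : X ⟶ CohB1.ProjSpace N k)

theorem appLE_ores {U V : (CohB1.ProjSpace N k).Opens} (h : V ≤ U) {W : X.Opens} (hW : W ≤ r ⁻¹ᵁ V)
    (s : Γ(CohB1.ProjSpace N k, U)) :
    (r.appLE V W hW).hom (ores h s) = (r.appLE U W (hW.trans (r.preimage_mono h))).hom s := by
  change ((CohB1.ProjSpace N k).presheaf.map (homOfLE h).op ≫ r.appLE V W hW).hom s = _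
  rw [Scheme.Hom.map_appLE]

/-- Change of chart. -/
theorem eqn_trans (i j : Fin (N + 1)) (W : X.Opens) (hi : W ≤ r ⁻¹ᵁ chart N k i) (hj : W ≤ r ⁻¹ᵁ chart N k j)
    {d : ℕ} (G : Form N k d) : ∃ u : Γ(X, W), eqn r i W hi G = u ^ d * eqn r j W hj G := by
  have hij : W ≤ r ⁻¹ᵁ (chart N k i ⊓ chart N k j) := fun x hx => ⟨hi hx, hj hx⟩
  refine ⟨(r.appLE (chart N k i ⊓ chart N k j) W hij).hom (ores inf_le_left (ratio i j)), ?_⟩
  have h1 := congrArg (r.appLE (chart N k i ⊓ chart N k j) W hij).hom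
    (ores_dehom G i j (chart N k i ⊓ chart N k j) inf_le_left inf_le_right)
  rw [appLE_ores, map_mul, map_pow, appLE_ores r inf_le_right] at h1
  exact h1

theorem sec'_eq_zero_of_chart [IsIntegral X] (j : Fin (N + 1)) (hj : ((r ⁻¹ᵁ chart N k j : X.Opens) : Set X).Nonempty)
    {d : ℕ} (G : Form N k d) (h : eqn r j (r ⁻¹ᵁ chart N k j) le_rfl G = 0) : sec' r G = 0 := by
  rw [sec'_eq_zero_iff]
  intro i
  rcases Set.eq_empty_or_nonempty ((r ⁻¹ᵁ chart N k i : X.Opens) : Set X) with hi | hi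
  · have hb : r ⁻¹ᵁ chart N k i = ⊥ := by
      ext1
      simpa using hi
    have : Subsingleton Γ(X, r ⁻¹ᵁ chart N k i) := by
      rw [hb]
      infer_instance
    exact Subsingleton.elim _ _
  · let W : X.Opens := r ⁻¹ᵁ chart N k i ⊓ r ⁻¹ᵁ chart N k j
    have hW : (W : Set X).Nonempty :=
      nonempty_preirreducible_inter (r ⁻¹ᵁ chart N k i).2 (r ⁻¹ᵁ chart N k j).2 hi hj
    have : Nonempty W := hW.to_subtype
    have hinj := map_injective_of_isIntegral X (homOfLE (inf_le_left : W ≤ r ⁻¹ᵁ chart N k i))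
    apply hinj
    rw [map_zero]
    have h1 := ores_eqn r i (inf_le_left : W ≤ r ⁻¹ᵁ chart N k i) le_rfl G
    have h2 := ores_eqn r j (inf_le_right : W ≤ r ⁻¹ᵁ chart N k j) le_rfl G
    rw [h, map_zero] at h2
    obtain ⟨u, hu⟩ := eqn_trans r i j W inf_le_left inf_le_right G
    refine h1.trans ?_
    rw [hu, ← h2, mul_zero]

theorem exists_nonempty [Nonempty X] : ∃ j : Fin (N + 1), ((r ⁻¹ᵁ chart N k j : X.Opens) : Set X).Nonempty := by
  obtain ⟨x⟩ := ‹Nonempty X›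
  obtain ⟨j, hj⟩ := Groth.Agent.PerfB.ProjSpaceCover.exists_mem_basicOpen_X N k (r x)
  exact ⟨j, x, hj⟩

theorem exists_prime [IsIntegral X] : ∃ P : Ideal (MvPolynomial (Fin (N + 1)) k), P.IsPrime ∧
    (∃ j, MvPolynomial.X j ∉ P) ∧ ∀ (d : ℕ) (G : Form N k d), sec' r G = 0 ↔ G.1 ∈ P := by
  obtain ⟨j, hj⟩ := exists_nonempty r
  have : Nonempty (r ⁻¹ᵁ chart N k j : X.Opens) := hj.to_subtype
  let ρ : MvPolynomial (Fin (N + 1)) k →+* Γ(X, r ⁻¹ᵁ chart N k j) :=
    (coordU r j (r ⁻¹ᵁ chart N k j) le_rfl).comp (ProjChart.dehom N k j : MvPolynomial (Fin (N + 1)) k →+* _)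
  have hρ : ∀ (d : ℕ) (G : Form N k d), ρ G.1 = eqn r j (r ⁻¹ᵁ chart N k j) le_rfl G := fun d G =>
    (eqn_eq r j (r ⁻¹ᵁ chart N k j) le_rfl G).symm
  refine ⟨RingHom.ker ρ, RingHom.ker_isPrime ρ, ⟨j, ?_⟩, fun d G => ?_⟩
  · rw [RingHom.mem_ker]
    change coordU r j _ le_rfl (ProjChart.dehom N k j (MvPolynomial.X j)) ≠ 0
    rw [ProjChart.dehom_X_self, map_one]
    exact one_ne_zero
  · rw [RingHom.mem_ker, hρ]
    exact ⟨fun h => (sec'_eq_zero_iff r G).mp h j, fun h => sec'_eq_zero_of_chart r j hj G h⟩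

end Groth.Agent.Fano.K931.Vanish
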