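import Groth.Agent.Surf.K463.HilbF
import Groth.Agent.Surf.K463.PnTw
import Groth.Agent.ShStab.K847.StabBasic
import Groth.Agent.AdjLin.K802.BundleCrit
import Groth.Agent.AdjLin.K802.Incl

/-!
# Comparison of Hilbert functions of closed subschemes of projective space

`hf k n I m = χ(O_Z(m))` for `Z = V(I) ⊂ P^n`.

* `exists_le`: if `I ≤ J` then `hf J m ≤ hf I m` for large `m`.
* `eq_of_hf_eq`: if `I ≤ J` and `hf I m = hf J m` for all `m : ℕ` then `I = J`.
-/

set_option autoImplicit false
universe u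
open CategoryTheory CategoryTheory.Limits AlgebraicGeometry TopologicalSpace Polynomial

namespace Groth.Agent.Fano.K931.HfMono

open K463.HilbF K463.PnTw K464.Base K847.StabBasic K847.HilbBasic
open Groth.Agent Groth.Agent.Ega3B.ProjFrame

variable (k : Type u) [Field k] (n : ℕ)

instance isProper_over : IsProper (CohB1.ProjSpace n k ↘ Spec (CommRingCat.of k)) :=
  VarietyB.EulerBinom.isProper_over k n

theorem euler_twist_idealMod (I : (CohB1.ProjSpace n k).IdealSheafData) (m : ℕ) :
    Curv2.euler k (CohB1.ProjSpace n k) (ShStab.twist _ (Twist.twistProjSpace n k 1) (ClSub.idealMod I) m) =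
      Curv2.euler k (CohB1.ProjSpace n k) (Twist.twistProjSpace n k m) - hf k n I m := by
  obtain ⟨e⟩ := nonempty_twistProjSpace_iso n k m
  have h1 : Curv2.euler k (CohB1.ProjSpace n k)
      (ShStab.twist _ (Twist.twistProjSpace n k 1) (ClSub.idealMod I) m) =
      Curv2.euler k (CohB1.ProjSpace n k) (CohB1.tensorMod (ClSub.idealMod I) (Twist.twistProjSpace n k m)) :=
    K464.Base.euler_congr k _ (Ega2.Tens.mapTIso (Iso.refl _) e.symm)
  have h2 := K464.Base.euler_quotMod_tensor k (CohB1.ProjSpace n k) I (isInvertible_twistProjSpace n k m)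
  rw [h1, hf, h2]
  ring

theorem exists_data {I J : (CohB1.ProjSpace n k).IdealSheafData} (h : I ≤ J) :
    ∃ φ : ClSub.idealMod I ⟶ ClSub.idealMod J, Mono φ ∧ φ ≫ ClSub.idealModι J = ClSub.idealModι I := by
  obtain ⟨φ, hφ⟩ := K802.Incl.exists_incl h
  refine ⟨φ, ?_, hφ⟩
  have h1 : Mono (φ ≫ ClSub.idealModι J) := by
    rw [hφ]
    exact inferInstanceAs (Mono (kernel.ι _))
  exact mono_of_mono φ (ClSub.idealModι J)

/-- The Hilbert function of a closed subscheme is eventually larger. -/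
theorem exists_le {I J : (CohB1.ProjSpace n k).IdealSheafData} (h : I ≤ J) :
    ∃ M : ℕ, ∀ m : ℕ, M ≤ m → hf k n J m ≤ hf k n I m := by
  obtain ⟨φ, hm, -⟩ := exists_data k n h
  have hI := isCoh_idealMod k (CohB1.ProjSpace n k) I
  have hJ := isCoh_idealMod k (CohB1.ProjSpace n k) J
  have hL := isAmple_twist_one k n
  obtain ⟨pI, hpI⟩ := exists_hilbPoly k hL.1 hI
  obtain ⟨pJ, hpJ⟩ := exists_hilbPoly k hL.1 hJ
  obtain ⟨M, hM⟩ := polyLE_of_mono k hL φ hI hJ hpI hpJ
  refine ⟨M, fun m hm => ?_⟩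
  have h1 := hM m hm
  rw [← hpI m, ← hpJ m, euler_twist_idealMod, euler_twist_idealMod] at h1
  have h2 : Curv2.euler k (CohB1.ProjSpace n k) (Twist.twistProjSpace n k m) - hf k n I m ≤
      Curv2.euler k (CohB1.ProjSpace n k) (Twist.twistProjSpace n k m) - hf k n J m := by exact_mod_cast h1
  linarith

/-- A closed subscheme with the same Hilbert function is everything. -/
theorem eq_of_hf_eq {I J : (CohB1.ProjSpace n k).IdealSheafData} (h : I ≤ J)
    (he : ∀ m : ℕ, hf k n I m = hf k n J m) : I = J := by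
  obtain ⟨φ, hm, hφ⟩ := exists_data k n h
  have hI := isCoh_idealMod k (CohB1.ProjSpace n k) I
  have hJ := isCoh_idealMod k (CohB1.ProjSpace n k) J
  have hL := isAmple_twist_one k n
  obtain ⟨pI, hpI⟩ := exists_hilbPoly k hL.1 hI
  have hpJ : ShStab.IsHilbPoly k (CohB1.ProjSpace n k) (Twist.twistProjSpace n k 1) (ClSub.idealMod J) pI := by
    intro m
    rw [← hpI m, euler_twist_idealMod, euler_twist_idealMod, he m]
  have hiso := isIso_of_hilbPoly_eq k hL φ hI hJ hpI hpJ
  refine le_antisymm h (K802.BundleCrit.le_of_hom (inv φ) ?_)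
  rw [← hφ, IsIso.inv_hom_id_assoc]

end Groth.Agent.Fano.K931.HfMono
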