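import Groth.Agent.Fano.K713.HomFactor
import Mathlib.RingTheory.MvPolynomial.Homogeneous
import Mathlib.RingTheory.Polynomial.UniqueFactorization
import Mathlib.Algebra.MvPolynomial.Nilpotent
import Mathlib.Tactic.LinearCombination

/-!
# Restriction of forms to a hyperplane

* `exists_restr`: for a nonzero linear form `l` in `n + 1` variables a graded retraction
  `φ : k[x_0, …, x_n] → k[y_1, …, y_n]` with kernel `(l)` and a graded section `ψ`.
* `mem_span_pair_iff`, `mem_of_mul_mem₁`, `mem_of_mul_mem₂`: nonzerodivisors modulo `(l)` and `(l, m)`.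
* `irreducible_of_quadric`.
-/

set_option autoImplicit false
universe u

namespace Groth.Agent.Fano.K931.HypRestr

open MvPolynomial

variable {k : Type u} [Field k] {n : ℕ}

/-- The data of the restriction to the hyperplane `l = 0`. -/
structure Restr (l : MvPolynomial (Fin (n + 1)) k) where
  /-- the restriction -/
  φ : MvPolynomial (Fin (n + 1)) k →ₐ[k] MvPolynomial (Fin n) k
  /-- a section -/
  ψ : MvPolynomial (Fin n) k →ₐ[k] MvPolynomial (Fin (n + 1)) k
  φψ : ∀ x, φ (ψ x) = x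
  mem_iff : ∀ x, φ x = 0 ↔ x ∈ Ideal.span {l}
  hφ : ∀ (F : MvPolynomial (Fin (n + 1)) k) (d : ℕ), F.IsHomogeneous d → (φ F).IsHomogeneous d
  hψ : ∀ (F : MvPolynomial (Fin n) k) (d : ℕ), F.IsHomogeneous d → (ψ F).IsHomogeneous d

theorem exists_coeffs {σ : Type} [Fintype σ] (l : MvPolynomial σ k) (hl : l.IsHomogeneous 1) :
    ∃ v : σ → k, l = ∑ i, C (v i) * X i := by
  have h1 : l ∈ Submodule.span k (Set.range (X : σ → MvPolynomial σ k)) := by
    rw [← homogeneousSubmodule_one_eq_span_X]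
    exact (mem_homogeneousSubmodule 1 l).mpr hl
  obtain ⟨v, hv⟩ := (Submodule.mem_span_range_iff_exists_fun k).mp h1
  refine ⟨v, ?_⟩
  rw [← hv]
  exact Finset.sum_congr rfl fun i _ => MvPolynomial.smul_eq_C_mul _ _

theorem exists_restr (l : MvPolynomial (Fin (n + 1)) k) (hl : l.IsHomogeneous 1) (h0 : l ≠ 0) :
    Nonempty (Restr l) := by
  obtain ⟨v, hv⟩ := exists_coeffs l hl
  obtain ⟨i₀, hi⟩ : ∃ i, v i ≠ 0 := by
    by_contra hcon
    push Not at hcon
    apply h0
    rw [hv]
    simp [hcon]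
  let y : MvPolynomial (Fin n) k := -∑ j : Fin n, C (v (i₀.succAbove j) / v i₀) * X j
  let φ : MvPolynomial (Fin (n + 1)) k →ₐ[k] MvPolynomial (Fin n) k :=
    aeval (Fin.insertNth (α := fun _ => MvPolynomial (Fin n) k) i₀ y (fun j => X j))
  let ψ : MvPolynomial (Fin n) k →ₐ[k] MvPolynomial (Fin (n + 1)) k := aeval fun j => X (i₀.succAbove j)
  have e1 : φ (X i₀) = y := by simp [φ]
  have e2 : ∀ j, φ (X (i₀.succAbove j)) = X j := fun j => by simp [φ]
  have e3 : ∀ j, ψ (X j) = X (i₀.succAbove j) := fun j => by simp [ψ]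
  have hφψ : φ.comp ψ = AlgHom.id k _ := by
    apply MvPolynomial.algHom_ext
    intro j
    rw [AlgHom.comp_apply, e3, e2, AlgHom.id_apply]
  have hC : ∀ c : k, φ (C c) = C c := fun c => by
    have := φ.commutes c
    simpa [MvPolynomial.algebraMap_eq] using this
  have hl' : l = C (v i₀) * X i₀ + ∑ j : Fin n, C (v (i₀.succAbove j)) * X (i₀.succAbove j) := by
    rw [hv, Fin.sum_univ_succAbove _ i₀]
  have hφl : φ l = 0 := by
    rw [hl', map_add, map_mul, e1, hC, map_sum]
    simp only [map_mul, hC, e2, y, mul_neg, Finset.mul_sum]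
    rw [neg_add_eq_zero]
    refine Finset.sum_congr rfl fun j _ => ?_
    rw [← mul_assoc, ← C_mul, mul_div_cancel₀ _ hi]
  have hmem : ∀ F, F - ψ (φ F) ∈ Ideal.span {l} := by
    have h1 : (Ideal.Quotient.mkₐ k (Ideal.span {l})).comp (ψ.comp φ) = Ideal.Quotient.mkₐ k (Ideal.span {l}) := by
      apply MvPolynomial.algHom_ext
      intro i
      rw [AlgHom.comp_apply, AlgHom.comp_apply]
      refine (Fin.eq_self_or_eq_succAbove i₀ i).elim (fun hi' => ?_) ?_
      · rw [hi', e1]
        refine (Ideal.Quotient.eq).mpr ?_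
        have h2 : ψ y - X i₀ = -(C (v i₀)⁻¹ * l) := by
          rw [hl']
          simp only [y, map_neg, map_sum, map_mul, e3, mul_add, Finset.mul_sum]
          have h3 : ∀ c : k, ψ (C c) = C c := fun c => by
            have := ψ.commutes c
            simpa [MvPolynomial.algebraMap_eq] using this
          rw [← mul_assoc, ← C_mul, inv_mul_cancel₀ hi, C_1, one_mul]
          have h4 : ∀ j : Fin n, C (v i₀)⁻¹ * (C (v (i₀.succAbove j)) * X (i₀.succAbove j)) =
              ψ (C (v (i₀.succAbove j) / v i₀)) * X (i₀.succAbove j) := fun j => by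
            rw [h3, ← mul_assoc, ← C_mul, div_eq_inv_mul]
          rw [Finset.sum_congr rfl fun j _ => h4 j]
          ring
        rw [h2]
        exact (Ideal.span {l}).neg_mem (Ideal.mul_mem_left _ _ (Ideal.mem_span_singleton_self l))
      · rintro ⟨j, rfl⟩
        rw [e2, e3]
    intro F
    have h2 := DFunLike.congr_fun h1 F
    exact (Ideal.Quotient.eq).mp h2.symm
  refine ⟨⟨φ, ψ, fun x => DFunLike.congr_fun hφψ x, fun x => ⟨fun hx => ?_, fun hx => ?_⟩, ?_, ?_⟩⟩
  · have := hmem x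
    rwa [hx, map_zero, sub_zero] at this
  · obtain ⟨c, rfl⟩ := Ideal.mem_span_singleton'.mp hx
    rw [map_mul, hφl, mul_zero]
  · intro F d hF
    have h := hF.aeval (Fin.insertNth (α := fun _ => MvPolynomial (Fin n) k) i₀ y (fun j => X j)) (n := 1) (by
      intro i
      refine (Fin.eq_self_or_eq_succAbove i₀ i).elim (fun hi' => ?_) ?_
      · rw [hi', Fin.insertNth_apply_same]
        refine (homogeneousSubmodule (Fin n) k 1).neg_mem (Submodule.sum_mem _ fun j _ => ?_)
        have := (isHomogeneous_C (Fin n) (v (i₀.succAbove j) / v i₀)).mul (isHomogeneous_X k j)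
        rwa [zero_add] at this
      · rintro ⟨j, rfl⟩
        rw [Fin.insertNth_apply_succAbove]
        exact isHomogeneous_X k j)
    rwa [one_mul] at h
  · intro F d hF
    have h := hF.aeval (fun j => (X (i₀.succAbove j) : MvPolynomial (Fin (n + 1)) k)) (n := 1)
      (fun j => isHomogeneous_X k _)
    rwa [one_mul] at h

variable {l : MvPolynomial (Fin (n + 1)) k} (R : Restr l)
include R

theorem sub_mem (x : MvPolynomial (Fin (n + 1)) k) : x - R.ψ (R.φ x) ∈ Ideal.span {l} := by
  rw [← R.mem_iff, map_sub, R.φψ, sub_self]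

theorem mem_span_pair_iff (m x : MvPolynomial (Fin (n + 1)) k) :
    x ∈ Ideal.span {l, m} ↔ R.φ m ∣ R.φ x := by
  have hl : R.φ l = 0 := (R.mem_iff l).mpr (Ideal.mem_span_singleton_self l)
  constructor
  · intro hx
    obtain ⟨a, b, rfl⟩ := Ideal.mem_span_pair.mp hx
    rw [map_add, map_mul, map_mul, hl, mul_zero, zero_add]
    exact dvd_mul_left _ _
  · rintro ⟨c, hc⟩
    have h1 : x - m * R.ψ c ∈ Ideal.span {l} := by
      rw [← R.mem_iff, map_sub, map_mul, R.φψ, hc, sub_self]
    have h2 : x = (x - m * R.ψ c) + R.ψ c * m := by ring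
    rw [h2]
    refine Ideal.add_mem _ (Ideal.span_mono (by simp) h1) (Ideal.mul_mem_left _ _ (Ideal.subset_span (by simp)))

theorem mem_of_mul_mem₁ {m : MvPolynomial (Fin (n + 1)) k} (hm : R.φ m ≠ 0) (f : MvPolynomial (Fin (n + 1)) k)
    (hf : m * f ∈ Ideal.span {l}) : f ∈ Ideal.span {l} := by
  rw [← R.mem_iff, map_mul] at hf
  rw [← R.mem_iff]
  exact (mul_eq_zero.mp hf).resolve_left hm

theorem mem_of_mul_mem₂ {m q : MvPolynomial (Fin (n + 1)) k} (hm : Prime (R.φ m)) (hq : q ∉ Ideal.span {l, m})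
    (f : MvPolynomial (Fin (n + 1)) k) (hf : q * f ∈ Ideal.span {l, m}) : f ∈ Ideal.span {l, m} := by
  rw [mem_span_pair_iff R, map_mul] at hf
  rw [mem_span_pair_iff R] at hq ⊢
  exact (hm.dvd_or_dvd hf).resolve_left hq

omit R in
theorem isUnit_of_isHomogeneous_zero {f : MvPolynomial (Fin n) k} (h : f.IsHomogeneous 0) (h0 : f ≠ 0) : IsUnit f := by
  have h1 : f.totalDegree = 0 := h.totalDegree h0
  rw [totalDegree_eq_zero_iff_eq_C] at h1
  rw [h1]
  refine (IsUnit.mk0 _ ?_).map C
  intro h2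
  rw [h2, C_0] at h1
  exact h0 h1

omit R in
theorem not_isUnit_of_isHomogeneous {f : MvPolynomial (Fin n) k} {d : ℕ} (h : f.IsHomogeneous d) (hd : 0 < d) :
    ¬ IsUnit f := by
  intro hu
  have h0 : f ≠ 0 := hu.ne_zero
  have h1 := h.totalDegree h0
  rw [isUnit_iff_totalDegree_of_isReduced] at hu
  omega

/-- A quadric of the prime ideal `P` containing `l` as its only linear form is irreducible modulo `l`. -/
theorem irreducible_of_quadric (P : Ideal (MvPolynomial (Fin (n + 1)) k)) [hP : P.IsPrime] (hlP : l ∈ P)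
    (huniq : ∀ l' : MvPolynomial (Fin (n + 1)) k, l'.IsHomogeneous 1 → l' ∈ P → l' ∈ Ideal.span {l})
    {q : MvPolynomial (Fin (n + 1)) k} (hq : q.IsHomogeneous 2) (hqP : q ∈ P) (hql : q ∉ Ideal.span {l}) :
    Prime (R.φ q) := by
  have hq0 : R.φ q ≠ 0 := fun h => hql ((R.mem_iff q).mp h)
  have hlP' : Ideal.span {l} ≤ P := by
    rw [Ideal.span_le]
    simpa using hlP
  refine Irreducible.prime ⟨not_isUnit_of_isHomogeneous (R.hφ q 2 hq) (by norm_num), fun {a b} hab => ?_⟩
  have hne : a * b ≠ 0 := by rw [← hab]; exact hq0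
  obtain ⟨α, β, hαβ, ha, hb⟩ := K713.HomFactor.exists_isHomogeneous (hab ▸ R.hφ q 2 hq) hne
  have ha0 := left_ne_zero_of_mul hne
  have hb0 := right_ne_zero_of_mul hne
  rcases Nat.eq_zero_or_pos α with h0 | h0
  · subst h0
    exact Or.inl (isUnit_of_isHomogeneous_zero ha ha0)
  rcases Nat.eq_zero_or_pos β with h0' | h0'
  · subst h0'
    exact Or.inr (isUnit_of_isHomogeneous_zero hb hb0)
  exfalso
  have hα : α = 1 := by omega
  have hβ : β = 1 := by omega
  subst hα hβ
  have h1 : R.ψ a * R.ψ b ∈ P := by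
    have h2 : q - R.ψ a * R.ψ b ∈ P := by
      apply hlP'
      rw [← R.mem_iff, map_sub, map_mul, R.φψ, R.φψ, hab, sub_self]
    have h3 : R.ψ a * R.ψ b = q - (q - R.ψ a * R.ψ b) := by ring
    rw [h3]
    exact P.sub_mem hqP h2
  have key : ∀ c : MvPolynomial (Fin n) k, c.IsHomogeneous 1 → R.ψ c ∈ P → c = 0 := by
    intro c hc hcP
    have h4 := huniq _ (R.hψ c 1 hc) hcP
    rw [← R.mem_iff, R.φψ] at h4
    exact h4
  rcases hP.mem_or_mem h1 with h | h
  · exact ha0 (key a ha h)
  · exact hb0 (key b hb h)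

/-- a nonzero linear form of the hyperplane is prime -/
theorem prime_of_linear {m : MvPolynomial (Fin (n + 1)) k} (hm : m.IsHomogeneous 1) (hml : m ∉ Ideal.span {l}) :
    Prime (R.φ m) := by
  have hq0 : R.φ m ≠ 0 := fun h => hml ((R.mem_iff m).mp h)
  refine Irreducible.prime ⟨not_isUnit_of_isHomogeneous (R.hφ m 1 hm) (by norm_num), fun {a b} hab => ?_⟩
  have hne : a * b ≠ 0 := by rw [← hab]; exact hq0
  obtain ⟨α, β, hαβ, ha, hb⟩ := K713.HomFactor.exists_isHomogeneous (hab ▸ R.hφ m 1 hm) hne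
  have ha0 := left_ne_zero_of_mul hne
  have hb0 := right_ne_zero_of_mul hne
  rcases Nat.eq_zero_or_pos α with h0 | h0
  · subst h0
    exact Or.inl (isUnit_of_isHomogeneous_zero ha ha0)
  · have hβ : β = 0 := by omega
    subst hβ
    exact Or.inr (isUnit_of_isHomogeneous_zero hb hb0)

end Groth.Agent.Fano.K931.HypRestr
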