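import Groth.Agent.Fano.K931.HypRestr
import Groth.Agent.Fano.K931.CIChi
import Groth.Agent.Fano.K714.QuartDef
import Groth.Agent.Fano.K714.LinSp
import Groth.Agent.Curves.K330.QuinticG2

/-!
# Linear and quadratic forms in five variables; decompositions of a smooth cubic form

* `lin_surjective`, `quad_surjective`;
* `linearIndependent_of_vanish`: if the smooth cubic form `f` vanishes on the common zeros of three linear forms,
  these are linearly independent;
* `exists_decomp`: a cubic form of the ideal `(l, q, q')` is `l G + A q + B q'`.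
-/

set_option autoImplicit false
universe u

namespace Groth.Agent.Fano.K931.QuartAlg

open MvPolynomial LefPen K330.QuinticG2 Groth.Agent.Fano.K714.Quart Groth.Agent.Fano.K931.HypRestr

variable {k : Type u} [Field k]

theorem lin_surjective : Function.Surjective (lin : (Fin 5 → k) → Form 4 k 1) := by
  intro l
  obtain ⟨v, hv⟩ := exists_coeffs l.1 ((mem_homogeneousSubmodule 1 l.1).mp l.2)
  refine ⟨v, Subtype.ext ?_⟩
  rw [hv, lin]
  simp only [AddSubmonoidClass.coe_finsetSum, Submodule.coe_smul, MvPolynomial.smul_eq_C_mul]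

theorem lin_val (v : Fin 5 → k) : (lin v).1 = ∑ i, C (v i) * X i := by
  rw [lin]
  simp only [AddSubmonoidClass.coe_finsetSum, Submodule.coe_smul, MvPolynomial.smul_eq_C_mul]

theorem quad_val (M : Fin 5 → Fin 5 → k) : (quad M).1 = ∑ i, ∑ j, C (M i j) * (X i * X j) := by
  rw [quad]
  simp only [AddSubmonoidClass.coe_finsetSum, Submodule.coe_smul, MvPolynomial.smul_eq_C_mul]

theorem exists_quad_monomial (d : Fin 5 →₀ ℕ) (hd : d.degree = 2) (c : k) :
    ∃ M : Fin 5 → Fin 5 → k, (quad M).1 = monomial d c := by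
  have key : ∀ (e : Fin 5 →₀ ℕ) (n : ℕ), e.degree = n + 1 → ∃ i, ∃ e' : Fin 5 →₀ ℕ,
      e = Finsupp.single i 1 + e' ∧ e'.degree = n := by
    intro e n he
    obtain ⟨i, hi⟩ : ∃ i, e i ≠ 0 := by
      by_contra hcon
      push Not at hcon
      have : e = 0 := Finsupp.ext hcon
      rw [this] at he
      simp at he
    have h1 : Finsupp.single i 1 + (e - Finsupp.single i 1) = e := by
      refine add_tsub_cancel_of_le ?_
      rw [Finsupp.single_le_iff]
      omega
    refine ⟨i, e - Finsupp.single i 1, h1.symm, ?_⟩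
    have h2 := congrArg Finsupp.degree h1
    rw [map_add, he, Finsupp.degree_single] at h2
    omega
  obtain ⟨i, e, rfl, he⟩ := key d 1 hd
  obtain ⟨j, e', rfl, he'⟩ := key e 0 he
  have he0 : e' = 0 := by
    rwa [Finsupp.degree_eq_zero_iff] at he'
  subst he0
  classical
  refine ⟨fun a b => if a = i ∧ b = j then c else 0, ?_⟩
  rw [quad_val, Finset.sum_eq_single i, Finset.sum_eq_single j]
  · simp only [and_self, if_true]
    rw [X, X, C_apply, monomial_mul, monomial_mul]
    simp
  · intro b _ hb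
    simp [hb]
  · simp
  · intro a _ ha
    simp [ha]
  · simp

theorem quad_surjective : Function.Surjective (quad : (Fin 5 → Fin 5 → k) → Form 4 k 2) := by
  classical
  intro Q
  have h1 : ∀ d : Fin 5 →₀ ℕ, ∃ M : Fin 5 → Fin 5 → k, (quad M).1 = monomial d (coeff d Q.1) := by
    intro d
    by_cases hd : coeff d Q.1 = 0
    · refine ⟨0, ?_⟩
      rw [quad_val, hd]
      simp
    · exact exists_quad_monomial d (by
        have h2 := ((mem_homogeneousSubmodule 2 Q.1).mp Q.2) hd
        rw [Finsupp.degree_eq_weight_one (R := ℕ)]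
        exact h2) _
  choose M hM using h1
  refine ⟨∑ d ∈ Q.1.support, M d, Subtype.ext ?_⟩
  have h3 : (quad (∑ d ∈ Q.1.support, M d)).1 = ∑ d ∈ Q.1.support, (quad (M d)).1 := by
    simp only [quad_val, Finset.sum_apply, map_sum, Finset.sum_mul]
    symm
    rw [Finset.sum_comm]
    refine Finset.sum_congr rfl fun i _ => ?_
    rw [Finset.sum_comm]
  rw [h3, Finset.sum_congr rfl fun d _ => hM d]
  exact support_sum_monomial_coeff Q.1

/-- If the smooth form `f` vanishes on the common zeros of three linear forms, these are linearly independent. -/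
theorem linearIndependent_of_vanish [IsAlgClosed k] (f : MvPolynomial (Fin 5) k) (hf : f.IsHomogeneous 3)
    (hsm : ∀ u : Fin 5 → k, u ≠ 0 → eval u f = 0 → ∃ i, eval u (pderiv i f) ≠ 0) (v : Fin 3 → Fin 5 → k)
    (h : ∀ u : Fin 5 → k, (∀ j, ∑ i, v j i * u i = 0) → eval u f = 0) : LinearIndependent k v := by
  let Λ : (Fin 5 → k) →ₗ[k] (Fin 3 → k) := LinearMap.pi fun j => ∑ i, v j i • LinearMap.proj i
  have hΛ : ∀ u j, Λ u j = ∑ i, v j i * u i := fun u j => by
    simp [Λ]
  have hker : ∀ u ∈ LinearMap.ker Λ, eval u f = 0 := fun u hu => h u fun j => by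
    rw [← hΛ, LinearMap.mem_ker.mp hu]
    rfl
  have h1 := K714.LinSp.two_mul_finrank_le (by norm_num) f hf (LinearMap.ker Λ) hker
    (fun u hu hu0 => hsm u hu0 (hker u hu))
  have h2 := Λ.finrank_range_add_finrank_ker
  rw [Module.finrank_fin_fun] at h2
  have h3 : LinearMap.range Λ = ⊤ := by
    apply Submodule.eq_top_of_finrank_eq
    have h4 : Module.finrank k (LinearMap.range Λ) ≤ Module.finrank k (Fin 3 → k) := Submodule.finrank_le _
    rw [Module.finrank_fin_fun] at h4 ⊢
    omega
  rw [Fintype.linearIndependent_iff]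
  intro g hg j
  obtain ⟨u, hu⟩ : ∃ u, Λ u = Pi.single j 1 := by
    have : Pi.single j 1 ∈ LinearMap.range Λ := by rw [h3]; trivial
    exact this
  have h5 : ∑ j', g j' * Λ u j' = 0 := by
    simp only [hΛ, Finset.mul_sum]
    rw [Finset.sum_comm]
    refine Finset.sum_eq_zero fun i _ => ?_
    have h6 := congrFun hg i
    simp only [Finset.sum_apply, Pi.smul_apply, smul_eq_mul, Pi.zero_apply] at h6
    calc ∑ j', g j' * (v j' i * u i) = (∑ j', g j' * v j' i) * u i := by
          rw [Finset.sum_mul]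
          exact Finset.sum_congr rfl fun _ _ => by ring
      _ = 0 := by rw [h6, zero_mul]
  rw [hu] at h5
  simpa [Pi.single_apply] using h5

theorem eval_lin' (v u : Fin 5 → k) : eval u (lin v).1 = ∑ i, v i * u i := eval_lin v u

/-- A smooth cubic form does not belong to the ideal of two linear forms. -/
theorem not_mem_span_pair [IsAlgClosed k] (f : MvPolynomial (Fin 5) k) (hf : f.IsHomogeneous 3)
    (hsm : ∀ u : Fin 5 → k, u ≠ 0 → eval u f = 0 → ∃ i, eval u (pderiv i f) ≠ 0) (l l' : Form 4 k 1) :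
    f ∉ Ideal.span {l.1, l'.1} := by
  intro hmem
  obtain ⟨v, rfl⟩ := lin_surjective l
  obtain ⟨v', rfl⟩ := lin_surjective l'
  have h1 := linearIndependent_of_vanish f hf hsm ![v, v', 0] (fun u hu => by
    obtain ⟨a, b, rfl⟩ := Ideal.mem_span_pair.mp hmem
    have e0 := hu 0
    have e1 := hu 1
    rw [map_add, map_mul, map_mul, eval_lin', eval_lin']
    simp only [Matrix.cons_val_zero, Matrix.cons_val_one] at e0 e1
    rw [e0, e1, mul_zero, mul_zero, add_zero])
  exact h1.ne_zero 2 rfl

/-- A cubic form of the ideal `(l, q, q')`. -/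
theorem exists_decomp (f : Form 4 k 3) (l : Form 4 k 1) (q q' : Form 4 k 2)
    (hmem : f.1 ∈ Ideal.span {l.1, q.1, q'.1}) :
    ∃ (G : Form 4 k 2) (A B : Form 4 k 1), f.1 = l.1 * G.1 + A.1 * q.1 + B.1 * q'.1 := by
  obtain ⟨a, z, hz, hf⟩ := Ideal.mem_span_insert.mp hmem
  obtain ⟨b, c, rfl⟩ := Ideal.mem_span_pair.mp hz
  refine ⟨⟨homogeneousComponent 2 a, homogeneousComponent_isHomogeneous 2 a⟩,
    ⟨homogeneousComponent 1 b, homogeneousComponent_isHomogeneous 1 b⟩,
    ⟨homogeneousComponent 1 c, homogeneousComponent_isHomogeneous 1 c⟩, ?_⟩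
  have h1 : homogeneousComponent 3 f.1 = f.1 := by
    rw [homogeneousComponent_of_mem (n := 3) f.2, if_pos rfl]
  change f.1 = l.1 * homogeneousComponent 2 a + homogeneousComponent 1 b * q.1 + homogeneousComponent 1 c * q'.1
  rw [← h1, hf, map_add, map_add]
  have e1 := homogeneousComponent_mul k 2 1 a l.2
  have e2 := homogeneousComponent_mul k 1 2 b q.2
  have e3 := homogeneousComponent_mul k 1 2 c q'.2
  norm_num at e1 e2 e3
  rw [e1, e2, e3]
  ring

end Groth.Agent.Fano.K931.QuartAlg
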