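import Groth.Agent.Fano.K714.RatDef
import Groth.Agent.Coherent.K51.CIConn
import Groth.Agent.Coherent.K51.CIDim
import Groth.Agent.Lefpen.H720.TangentAny
import Groth.Agent.Pi1.H273.ChartField
import Groth.Agent.Lefpen.H608.NotFinite

/-!
# The gradient of the equation of a smooth cubic threefold
-/

set_option autoImplicit false
universe u
open CategoryTheory CategoryTheory.Limits AlgebraicGeometry TopologicalSpace Opposite

namespace Groth.Agent.Fano.K931.SmoothCubic

open LefPen Groth.Agent.Coherent.K51.CIReg Groth.Agent.Lefpen.H718.Chart Groth.Agent.Fano.K714.Rat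

variable {k : Type u} [Field k]

/-- one hypersurface as a complete intersection -/
noncomputable abbrev one {n d : ℕ} (f : Form n k d) : ∀ _ : Fin 1, Form n k d := fun _ => f

theorem ciIdeal_one {n d : ℕ} (f : Form n k d) : ciIdeal (a := fun _ : Fin 1 => d) (one f) = hypIdeal f := by
  rw [ciIdeal, iSup_unique]

theorem isReg_one {n d : ℕ} (f : Form n k d) (hf : f.1 ≠ 0) : IsReg (a := fun _ : Fin 1 => d) (one f) := by
  intro c g hg
  have hc : ((fun j : Fin 1 => ((one f) j).1) '' {j | j < c}) = ∅ := by
    have : {j : Fin 1 | j < c} = ∅ := by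
      ext j
      simp only [Set.mem_ofPred_eq, Set.mem_empty_iff_false, iff_false]
      omega
    rw [this, Set.image_empty]
  rw [hc, Ideal.span_empty] at hg ⊢
  exact (mul_eq_zero.mp hg).resolve_left hf

theorem exists_pderiv_ne_zero (f : Form 4 k 3) (hf : f ≠ 0) [hs : Smooth (ps f)] (u : Fin 5 → k) (hu : u ≠ 0)
    (h0 : MvPolynomial.eval u f.1 = 0) : ∃ i, MvPolynomial.eval u (MvPolynomial.pderiv i f.1) ≠ 0 := by
  have hreg := isReg_one f (fun h => hf (Subtype.ext h))
  have hne : Nonempty (ciIdeal (a := fun _ : Fin 1 => 3) (one f)).subscheme :=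
    Lefpen.H608.NotFinite.nonempty_Y _ (by norm_num) (fun _ => by norm_num)
  have hdim := Coherent.K51.CIDim.dim_eq_of_isReg hreg
  have hconn := Coherent.K51.CIConn.connectedSpace (Coherent.K51.CIGood.good_ci 1 (by norm_num) _ _ hreg)
    (by norm_num)
  rw [ciIdeal_one] at hdim hconn
  have hrel : SmoothOfRelativeDimension 3 (ps f) := Pi1.H273.ChartField.smoothOfRelativeDimension (ps f) 3 hdim
  exact Lefpen.H720.TangentAny.exists_pderiv_ne_zero 3 (by norm_num) f u hu h0

end Groth.Agent.Fano.K931.SmoothCubic
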