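import Groth.Agent.Fano.K931.QuartAlg
import Groth.Agent.Fano.K931.SmoothCubic
import Groth.Agent.Fano.K931.Saturate
import Groth.Agent.Fano.K931.HfMono

/-!
# Elliptic quartics on a smooth cubic threefold

`exists_sol`: a smooth integral curve of genus one and degree four on a smooth cubic threefold `V_+(f)` is the
complete intersection `V_+(v₀, M₁, M₂)` of a decomposition `f = v₀ M₀ + v₁ M₁ + v₂ M₂`.
-/

set_option autoImplicit false
universe u
open CategoryTheory CategoryTheory.Limits AlgebraicGeometry TopologicalSpace Opposite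

namespace Groth.Agent.Fano.K931.QuartClass

open LefPen K463.HilbF CIChi Groth.Agent.Coherent.K51.CIReg K330.FormSec K330.CurveDim K330.QuinticG2
  Groth.Agent.Fano.K714.Rat Groth.Agent.Fano.K714.Quart Saturate Groth.Agent.Fano.K931.HypRestr QuartAlg

variable {k : Type u} [Field k]

section Curve

variable [IsAlgClosed k] {C : Scheme.{u}} [C.Over (Spec (CommRingCat.of k))]
  [IsProper (C ↘ Spec (CommRingCat.of k))] [IsIntegral C] (r : C ⟶ CohB1.ProjSpace 4 k)
  (hC : topologicalKrullDim C = 1)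
  (hdeg : Curv2.deg k C ((Scheme.Modules.pullback r).obj (Twist.twistProjSpace 4 k 1)) 1 = 4)
include hC hdeg

omit [IsAlgClosed k] in
theorem deg_eq (m : ℤ) :
    Curv2.deg k C ((Scheme.Modules.pullback r).obj (Twist.twistProjSpace 4 k m)) 1 = 4 * m := by
  have h0 : Curv2.deg k C ((Scheme.Modules.pullback r).obj (Twist.twistProjSpace 4 k 0)) 1 = 0 := by
    have h := deg_pull_twist_add r hC.le 0 0
    rw [add_zero] at h
    omega
  induction m using Int.induction_on with
  | zero => rw [h0, mul_zero]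
  | succ m ih => rw [deg_pull_twist_add r hC.le, ih, hdeg]; ring
  | pred m ih =>
    have h := deg_pull_twist_add r hC.le (-(m : ℤ) - 1) 1
    rw [sub_add_cancel, ih, hdeg] at h
    linarith

theorem euler_eq (hg : Curv2.genus k C = 1) (m : ℤ) :
    Curv2.euler k C ((Scheme.Modules.pullback r).obj (Twist.twistProjSpace 4 k m)) = 4 * m := by
  have := CurvesB.CurveRR.isNoetherian_of_proper k C
  have h1 := CurvesB.CurveRR.euler_eq k C hC.le (Coh.structureModule C)
  rw [VarietyA.CurveFin.finrank_h0_structure k C] at h1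
  have h2 : (Module.finrank k (Coh.HH C (Coh.structureModule C) 1) : ℤ) = 1 := by
    have : Module.finrank k (Coh.HH C (Coh.structureModule C) 1) = 1 := hg
    exact_mod_cast this
  rw [h2] at h1
  have h3 := deg_eq r hC hdeg m
  unfold Curv2.deg at h3
  rw [h1] at h3
  push_cast at h3
  linarith

end Curve

/-- Linear algebra: three equations. -/
theorem exists_forms {V₁ V₂ : Type*} [AddCommGroup V₁] [Module k V₁]
    [AddCommGroup V₂] [Module k V₂] [Module.Finite k V₁] [Module.Finite k V₂] (f₁ : Form 4 k 1 →ₗ[k] V₁)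
    (f₂ : Form 4 k 2 →ₗ[k] V₂) (h₁ : Module.finrank k V₁ = 4) (h₂ : Module.finrank k V₂ = 8) :
    ∃ (l : Form 4 k 1) (q q' : Form 4 k 2), l ≠ 0 ∧ f₁ l = 0 ∧ f₂ q = 0 ∧ f₂ q' = 0 ∧
      q.1 ∉ Ideal.span {l.1} ∧ q'.1 ∉ Ideal.span {l.1, q.1} := by
  have e₁ := K568.GenericForms.finrank_form (k := k) 4 1
  have e₂ := K568.GenericForms.finrank_form (k := k) 4 2
  have c2 : (4 + 2).choose 2 = 15 := by decide
  rw [Nat.choose_one_right] at e₁
  rw [c2] at e₂
  have hk : LinearMap.ker f₁ ≠ ⊥ := LinearMap.ker_ne_bot_of_finrank_lt (by rw [e₁, h₁]; norm_num)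
  obtain ⟨l, hl, hl0⟩ := (Submodule.ne_bot_iff _).1 hk
  let m : Form 4 k 1 →ₗ[k] Form 4 k 2 := mulForm (b := 1) l
  have hr : Module.finrank k (LinearMap.range m) ≤ 5 := (LinearMap.finrank_range_le m).trans e₁.le
  have hk2 : 7 ≤ Module.finrank k (LinearMap.ker f₂) := by
    have h3 := f₂.finrank_range_add_finrank_ker
    have h4 : Module.finrank k (LinearMap.range f₂) ≤ Module.finrank k V₂ := Submodule.finrank_le _
    rw [e₂] at h3
    omega
  have hn : ¬ (LinearMap.ker f₂ ≤ LinearMap.range m) := by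
    intro hle
    have := Submodule.finrank_mono hle
    omega
  obtain ⟨q, hq, hq'⟩ := Set.not_subset.1 hn
  have hspan : Module.finrank k (Submodule.span k {q}) ≤ 1 := by
    have := finrank_span_le_card (R := k) ({q} : Set (Form 4 k 2))
    simpa using this
  have hr2 : Module.finrank k (LinearMap.range m ⊔ Submodule.span k {q} : Submodule k (Form 4 k 2)) ≤ 6 := by
    have := Submodule.finrank_add_le_finrank_add_finrank (LinearMap.range m) (Submodule.span k {q})
    omega
  have hn2 : ¬ (LinearMap.ker f₂ ≤ LinearMap.range m ⊔ Submodule.span k {q}) := by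
    intro hle
    have := Submodule.finrank_mono hle
    omega
  obtain ⟨q₂, hq₂, hq₂'⟩ := Set.not_subset.1 hn2
  refine ⟨l, q, q₂, hl0, hl, hq, hq₂, fun hmem => hq' ?_, fun hmem => hq₂' ?_⟩
  · exact mem_range_mulForm (b := 1) l q hmem
  · obtain ⟨a, b, hab⟩ := Ideal.mem_span_pair.mp hmem
    have h1 : MvPolynomial.homogeneousComponent 2 q₂.1 = q₂.1 := by
      rw [MvPolynomial.homogeneousComponent_of_mem (n := 2) q₂.2, if_pos rfl]
    have e1 := homogeneousComponent_mul k 1 1 a l.2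
    have e2 := homogeneousComponent_mul k 0 2 b q.2
    norm_num at e1 e2
    have h2 : q₂ = m ⟨MvPolynomial.homogeneousComponent 1 a,
        MvPolynomial.homogeneousComponent_isHomogeneous 1 a⟩ + (MvPolynomial.coeff 0 b) • q := by
      apply Subtype.ext
      change q₂.1 = l.1 * MvPolynomial.homogeneousComponent 1 a + (MvPolynomial.coeff 0 b) • q.1
      rw [← h1, ← hab, map_add, e1, e2, MvPolynomial.smul_eq_C_mul]
      ring
    rw [h2]
    exact Submodule.add_mem_sup ⟨_, rfl⟩ (Submodule.smul_mem _ _ (Submodule.mem_span_singleton_self q))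

/-- Regular sequences from the restriction to a hyperplane. -/
theorem isReg_of_restr {l : Form 4 k 1} (h0 : l.1 ≠ 0) {b c : ℕ} {m : Form 4 k b} {q : Form 4 k c}
    (R : Restr l.1) (hm : Prime (R.φ m.1)) (hq : q.1 ∉ Ideal.span {l.1, m.1}) : IsReg (fam3 l m q) :=
  isReg_fam3 h0 (fun f hf => mem_of_mul_mem₁ R hm.ne_zero f hf) (fun f hf => mem_of_mul_mem₂ R hm hq f hf)

theorem ciIdeal_le {X : Scheme.{u}} (r : X ⟶ CohB1.ProjSpace 4 k) {a b c : ℕ} (l : Form 4 k a) (m : Form 4 k b)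
    (q : Form 4 k c) (hl : sec' r l = 0) (hm : sec' r m = 0) (hq : sec' r q = 0) :
    ciIdeal (fam3 l m q) ≤ r.ker := by
  rw [ciIdeal_fam3]
  exact sup_le (sup_le (hypIdeal_le_ker r l hl) (hypIdeal_le_ker r m hm)) (hypIdeal_le_ker r q hq)

theorem hom_of_form {n d : ℕ} (F : Form n k d) : F.1.IsHomogeneous d :=
  (MvPolynomial.mem_homogeneousSubmodule d F.1).mp F.2

theorem core [IsAlgClosed k] (f : Form 4 k 3)
    (hsmf : ∀ u : Fin 5 → k, u ≠ 0 → MvPolynomial.eval u f.1 = 0 →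
      ∃ i, MvPolynomial.eval u (MvPolynomial.pderiv i f.1) ≠ 0)
    {C : Scheme.{u}} [C.Over (Spec (CommRingCat.of k))]
    [IsProper (C ↘ Spec (CommRingCat.of k))] [IsIntegral C] (r : C ⟶ CohB1.ProjSpace 4 k) [IsClosedImmersion r]
    (hr : r ≫ CohB1.ProjSpace.toSpec 4 k = C ↘ Spec (CommRingCat.of k))
    (hC : topologicalKrullDim C = 1) (hg : Curv2.genus k C = 1)
    (hdeg : Curv2.deg k C ((Scheme.Modules.pullback r).obj (Twist.twistProjSpace 4 k 1)) 1 = 4)
    (hfr : sec' r f = 0) : ∃ q ∈ Sol f, r.ker = cI q := by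
  obtain ⟨P, hP, -, hPF⟩ := Vanish.exists_prime r
  have hh : ∀ m : ℤ, hf k 4 r.ker m = 4 * m := fun m => by
    rw [← hf_eq k 4 r hr, euler_eq r hC hdeg hg]
  have hd1 := deg_eq r hC hdeg ((1 : ℕ) : ℤ)
  have hd2 := deg_eq r hC hdeg ((2 : ℕ) : ℤ)
  have h1 := finrank_h0_of_deg k C hC (isInvertible_pull_twist r ((1 : ℕ) : ℤ)) (by rw [hd1, hg]; norm_num)
  have h2 := finrank_h0_of_deg k C hC (isInvertible_pull_twist r ((2 : ℕ) : ℤ)) (by rw [hd2, hg]; norm_num)
  rw [hd1, hg] at h1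
  rw [hd2, hg] at h2
  have h1' := Nat.cast_injective (R := ℤ) (h1.trans (show _ = ((4 : ℕ) : ℤ) by norm_num))
  have h2' := Nat.cast_injective (R := ℤ) (h2.trans (show _ = ((8 : ℕ) : ℤ) by norm_num))
  have := Groth.Agent.VarietyA.CurveFin.finite_HH k C (isInvertible_pull_twist r ((1 : ℕ) : ℤ)) 0
  have := Groth.Agent.VarietyA.CurveFin.finite_HH k C (isInvertible_pull_twist r ((2 : ℕ) : ℤ)) 0
  obtain ⟨l, q, q', hl0, hl, hq, hq', hql, hq'l⟩ := exists_forms (formSec (d := 1) C r hr)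
    (formSec (d := 2) C r hr) h1' h2'
  replace hl : sec' r l = 0 := (map_eq_zero_iff _ (Groth.Agent.CurvesB.HZero.equivAdd _).symm.injective).1 hl
  replace hq : sec' r q = 0 := (map_eq_zero_iff _ (Groth.Agent.CurvesB.HZero.equivAdd _).symm.injective).1 hq
  replace hq' : sec' r q' = 0 := (map_eq_zero_iff _ (Groth.Agent.CurvesB.HZero.equivAdd _).symm.injective).1 hq'
  have hl0' : l.1 ≠ 0 := fun h => hl0 (Subtype.ext h)
  obtain ⟨R⟩ := exists_restr l.1 (hom_of_form l) hl0'
  have huniq : ∀ l' : MvPolynomial (Fin 5) k, l'.IsHomogeneous 1 → l' ∈ P → l' ∈ Ideal.span {l.1} := by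
    intro l' hl'h hl'P
    by_contra hcon
    let L' : Form 4 k 1 := ⟨l', (MvPolynomial.mem_homogeneousSubmodule _ _).mpr hl'h⟩
    have hL' : sec' r L' = 0 := (hPF 1 L').mpr hl'P
    have hreg : IsReg (fam3 l L' f) := isReg_of_restr hl0' R (prime_of_linear R hl'h hcon)
      (not_mem_span_pair f.1 (hom_of_form f) hsmf l L')
    obtain ⟨M, hM⟩ := HfMono.exists_le k 4 (ciIdeal_le r l L' f hl hL' hfr)
    have h3 := hM (max M 1) (le_max_left _ _)
    rw [hf_113 l L' f hreg, hh] at h3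
    have h4 : (1 : ℤ) ≤ ((max M 1 : ℕ) : ℤ) := by exact_mod_cast le_max_right M 1
    omega
  have hprime := irreducible_of_quadric R P ((hPF 1 l).mp hl) huniq (hom_of_form q) ((hPF 2 q).mp hq) hql
  have hreg : IsReg (fam3 l q q') := isReg_of_restr hl0' R hprime hq'l
  have hker : ciIdeal (fam3 l q q') = r.ker :=
    HfMono.eq_of_hf_eq k 4 (ciIdeal_le r l q q' hl hq hq') fun m => by rw [hf_122 l q q' hreg, hh]
  have hmem := Saturate.mem_span r hC le_rfl one_le_two one_le_two l q q' hker.symm f hfr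
  obtain ⟨G, A, B, hdec⟩ := exists_decomp f l q q' hmem
  obtain ⟨v0, rfl⟩ := lin_surjective l
  obtain ⟨v1, rfl⟩ := lin_surjective A
  obtain ⟨v2, rfl⟩ := lin_surjective B
  obtain ⟨M0, rfl⟩ := quad_surjective G
  obtain ⟨M1, rfl⟩ := quad_surjective q
  obtain ⟨M2, rfl⟩ := quad_surjective q'
  refine ⟨(![v0, v1, v2], ![M0, M1, M2]), ⟨?_, ?_⟩, ?_⟩
  · refine linearIndependent_of_vanish f.1 (hom_of_form f) hsmf ![v0, v1, v2] fun u hu => ?_
    have e0 : ∑ i, v0 i * u i = 0 := hu 0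
    have e1 : ∑ i, v1 i * u i = 0 := hu 1
    have e2 : ∑ i, v2 i * u i = 0 := hu 2
    rw [hdec, map_add, map_add, map_mul, map_mul, map_mul, eval_lin', eval_lin', eval_lin', e0, e1, e2]
    ring
  · rw [Fin.sum_univ_three]
    exact hdec
  · rw [← hker, ciIdeal_fam3]
    rfl

/-- Job QA: elliptic quartics on a smooth cubic threefold are residual complete intersections. -/
theorem exists_sol [IsAlgClosed k] (f : LefPen.Form 4 k 3) (hf : f ≠ 0) [Smooth (ps f)]
    (C : Scheme.{u}) (p : C ⟶ Spec (CommRingCat.of k)) (i : C ⟶ Xf f) (hcl : IsClosedImmersion i)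
    (hip : i ≫ ps f = p) (_hsm : Smooth p) (hpr : IsProper p) (hint : IsIntegral C)
    (hdim : topologicalKrullDim C = 1) (hg : @Curv2.genus k _ C ⟨p⟩ = 1)
    (hdeg : @Curv2.deg k _ C ⟨p⟩ ((Scheme.Modules.pullback (i ≫ emb f)).obj
      (Twist.twistProjSpace 4 k 1)) 1 = 4) :
    ∃ q ∈ Sol f, (i ≫ emb f).ker = cI q := by
  let _ : C.Over (Spec (CommRingCat.of k)) := ⟨p⟩
  have hpr' : IsProper (C ↘ Spec (CommRingCat.of k)) := hpr
  refine core f (SmoothCubic.exists_pderiv_ne_zero f hf) (i ≫ emb f) ?_ hdim hg hdeg ?_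
  · rw [Category.assoc]
    exact hip
  · rw [sec'_eq_zero_iff_le]
    have h1 : hypIdeal f = (emb f).ker := (Scheme.IdealSheafData.ker_subschemeι _).symm
    rw [h1]
    exact Scheme.Hom.le_ker_comp i (emb f)

end Groth.Agent.Fano.K931.QuartClass
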