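import Groth.Agent.Fano.K931.CIChi
import Groth.Agent.Fano.K714.QuartDef
import Groth.Agent.Coherent.K51.CIConn
import Groth.Agent.Coherent.K51.CIDim
import Groth.Agent.VBCurve.K708.Geom
import Groth.Agent.VarietyA.CurveFin
import Groth.Agent.CurvesB.CurveRR
import Groth.Agent.Curves.K330.FormSec
import Groth.Agent.Fcompl.H545.SysBasic
import Groth.Agent.Ega3B.PullTensor

/-!
# Smooth residual complete intersections are elliptic quartics

`of_good`: a smooth one-dimensional `V_+(v₀, M₁, M₂) ⊂ V_+(f)` is an integral curve of genus one and degree four.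
-/

set_option autoImplicit false
universe u
open CategoryTheory CategoryTheory.Limits AlgebraicGeometry TopologicalSpace Opposite

namespace Groth.Agent.Fano.K931.QuartGood

open LefPen K463.HilbF CIChi Groth.Agent.Coherent.K51.CIReg Groth.Agent.Lefpen.H718.Chart
  Groth.Agent.Lefpen.H121.ChartLift K330.FormSec Groth.Agent.Fano.K714.Rat Groth.Agent.Fano.K714.Quart

variable {k : Type u} [Field k]

/-- A form in the ideal of the equations vanishes on the complete intersection. -/
theorem hypIdeal_le {n r d : ℕ} {a : Fin r → ℕ} (G : ∀ j : Fin r, Form n k (a j)) (F : Form n k d)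
    (h : F.1 ∈ Ideal.span (Set.range fun l => (G l).1)) : hypIdeal F ≤ ciIdeal G := by
  have h1 : sec' (yι G) F = 0 := by
    rw [sec'_eq_zero_iff]
    intro j
    have h2 := fn_eq_zero G j h
    rw [fn_eq_eqn] at h2
    exact h2
  have h3 := hypIdeal_le_ker (yι G) F h1
  rwa [Scheme.IdealSheafData.ker_subschemeι] at h3

theorem one_le_dg3 {a b c : ℕ} (ha : 1 ≤ a) (hb : 1 ≤ b) (hc : 1 ≤ c) (j : Fin 3) : 1 ≤ dg3 a b c j := by
  match j with
  | 0 => exact ha
  | 1 => exact hb
  | 2 => exact hc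

theorem core [IsAlgClosed k] (f : Form 4 k 3) (l : Form 4 k 1) (q q' : Form 4 k 2)
    (hf : f.1 ∈ Ideal.span {l.1, q.1, q'.1}) (I : (CohB1.ProjSpace 4 k).IdealSheafData)
    (hI : I = ciIdeal (fam3 l q q')) (hsm : Smooth (I.subschemeι ≫ CohB1.ProjSpace.toSpec 4 k))
    (hdim : topologicalKrullDim ↥I.subscheme = 1) :
    ∃ (i : I.subscheme ⟶ Xf f), i ≫ emb f = I.subschemeι ∧ IsClosedImmersion i ∧
      i.ker = I.comap (emb f) ∧ IsIntegral I.subscheme ∧ IsProper (i ≫ ps f) ∧
      @Curv2.genus k _ I.subscheme ⟨i ≫ ps f⟩ = 1 ∧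
      @Curv2.deg k _ I.subscheme ⟨i ≫ ps f⟩ ((Scheme.Modules.pullback (i ≫ emb f)).obj
        (Twist.twistProjSpace 4 k 1)) 1 = 4 := by
  have hle : hypIdeal f ≤ I := by
    rw [hI]
    refine hypIdeal_le _ f ?_
    rw [range_fam3]
    exact hf
  have hle' : (emb f).ker ≤ I.subschemeι.ker := by
    rw [Scheme.IdealSheafData.ker_subschemeι, Scheme.IdealSheafData.ker_subschemeι]
    exact hle
  obtain ⟨i, hi⟩ : ∃ i : I.subscheme ⟶ Xf f, i ≫ emb f = I.subschemeι :=
    ⟨IsClosedImmersion.lift _ _ hle', IsClosedImmersion.lift_fac _ _ hle'⟩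
  have hcl : IsClosedImmersion i := by
    have : IsClosedImmersion (i ≫ emb f) := by rw [hi]; infer_instance
    exact IsClosedImmersion.of_comp i (emb f)
  have hstr : i ≫ ps f = I.subschemeι ≫ CohB1.ProjSpace.toSpec 4 k := by
    rw [← hi, Category.assoc]
  have hprop : IsProper (i ≫ ps f) := by
    rw [hstr]
    have := VarietyB.EulerBinom.isProper_over k 4
    exact inferInstanceAs (IsProper (I.subschemeι ≫ (CohB1.ProjSpace 4 k ↘ Spec (CommRingCat.of k))))
  have hreg : IsReg (fam3 l q q') := by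
    refine isReg_of_dim _ (by norm_num) (one_le_dg3 le_rfl (by norm_num) (by norm_num)) ?_
    rw [← hI, hdim]
    exact le_rfl
  have hconn : ConnectedSpace I.subscheme := by
    have hne := Coherent.K51.CIDim.nonempty_of_dim (n := 1) hdim
    have h1 := Coherent.K51.CIGood.good_ci 3 (by norm_num) _ _ hreg
    rw [← hI] at h1
    exact Coherent.K51.CIConn.connectedSpace h1 le_rfl
  have hint : IsIntegral I.subscheme := K708.Geom.isIntegral_of_connected (I.subschemeι ≫ CohB1.ProjSpace.toSpec 4 k)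
  refine ⟨i, hi, hcl, ?_, hint, hprop, ?_⟩
  · have h1 : IsClosedImmersion (i ≫ emb f) := by rw [hi]; infer_instance
    have h2 := Fcompl.H545.SysBasic.comap_ker_comp i (emb f)
    rw [hi, Scheme.IdealSheafData.ker_subschemeι] at h2
    exact h2.symm
  · let _ : I.subscheme.Over (Spec (CommRingCat.of k)) := ⟨i ≫ ps f⟩
    have hprop' : IsProper (I.subscheme ↘ Spec (CommRingCat.of k)) := hprop
    have := CurvesB.CurveRR.isNoetherian_of_proper k I.subscheme
    have hχ : ∀ m : ℤ, Curv2.euler k I.subscheme ((Scheme.Modules.pullback I.subschemeι).obj (Twist.twistProjSpace 4 k m)) =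
        4 * m := fun m => by
      have h1 := hf_eq k 4 I.subschemeι (by exact hstr.symm) m
      rw [h1, Scheme.IdealSheafData.ker_subschemeι, hI, hf_122 l q q' hreg]
    have h0 : Curv2.euler k I.subscheme (Coh.structureModule I.subscheme) = 0 := by
      obtain ⟨e⟩ := K463.HilbF.nonempty_zero k 4
      obtain ⟨e'⟩ := Ega3B.PullTensor.nonempty_pullUnitIso I.subschemeι
      rw [← CurvesC.DegIso.euler_congr k ((Scheme.Modules.pullback I.subschemeι).mapIso e ≪≫ e'), hχ 0, mul_zero]
    have h1 := CurvesB.CurveRR.euler_eq k I.subscheme hdim.le (Coh.structureModule I.subscheme)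
    rw [h0, VarietyA.CurveFin.finrank_h0_structure k I.subscheme] at h1
    refine ⟨?_, ?_⟩
    · change Module.finrank k (Coh.HH I.subscheme (Coh.structureModule I.subscheme) 1) = 1
      push_cast at h1
      omega
    · change Curv2.euler k I.subscheme _ - (1 : ℕ) * Curv2.euler k I.subscheme (Coh.structureModule I.subscheme) = 4
      rw [h0, mul_zero, sub_zero, hi]
      exact hχ 1

theorem cI_eq (q : Data k) : cI q = ciIdeal (fam3 (lin (q.1 0)) (quad (q.2 1)) (quad (q.2 2))) :=
  (ciIdeal_fam3 _ _ _).symm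

theorem mem_span_of_sol {f : Form 4 k 3} {q : Data k} (hq : q ∈ Sol f) :
    f.1 ∈ Ideal.span {(lin (q.1 0)).1, (quad (q.2 1)).1, (quad (q.2 2)).1} := by
  rw [hq.2, Fin.sum_univ_three]
  refine Ideal.add_mem _ (Ideal.add_mem _ ?_ ?_) ?_
  · exact Ideal.mul_mem_right _ _ (Ideal.subset_span (by simp))
  · exact Ideal.mul_mem_left _ _ (Ideal.subset_span (by simp))
  · exact Ideal.mul_mem_left _ _ (Ideal.subset_span (by simp))

/-- Job QB: smooth members are elliptic quartics on the threefold. -/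
theorem of_good [IsAlgClosed k] (f : LefPen.Form 4 k 3) (q : Data k) (hq : q ∈ Sol f) (hgood : Good q) :
    ∃ (i : (cI q).subscheme ⟶ Xf f), i ≫ emb f = (cI q).subschemeι ∧ IsClosedImmersion i ∧
      i.ker = (cI q).comap (emb f) ∧ IsIntegral (cI q).subscheme ∧ IsProper (i ≫ ps f) ∧
      @Curv2.genus k _ (cI q).subscheme ⟨i ≫ ps f⟩ = 1 ∧
      @Curv2.deg k _ (cI q).subscheme ⟨i ≫ ps f⟩ ((Scheme.Modules.pullback (i ≫ emb f)).obj
        (Twist.twistProjSpace 4 k 1)) 1 = 4 :=
  core f (lin (q.1 0)) (quad (q.2 1)) (quad (q.2 2)) (mem_span_of_sol hq) (cI q) (cI_eq q) hgood.1 hgood.2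

end Groth.Agent.Fano.K931.QuartGood
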